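/-
Project TB.  The opposite node, for a centraliser of index one or two over the double cover.
-/
import Cfsg.Agent.BU.Defs
import Cfsg.Agent.MON.MtA

set_option autoImplicit false

namespace Cfsg.Agent.BU.W

open Subgroup
open scoped commutatorElement

/-- `C(t) = M` or `M.2`, `M / ⟨t⟩ = T`, and the nodes `s i ∈ M` lie over the nodes `n i` -/
structure Ctx {G T : Type*} [Group G] [Group T] (n : ℕ → T) (t : G) (M : Subgroup G) (p : M →* T)
    (s : ℕ → G) : Prop where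
  t2 : orderOf t = 2
  tM : t ∈ M
  le : M ≤ centralizer {t}
  idx : M.relIndex (centralizer {t}) ∣ 2
  surj : Function.Surjective p
  ker : ∀ m, p m = 1 ↔ (m : G) = 1 ∨ (m : G) = t
  node : ∀ i ∈ ga, ∃ h : s i ∈ M, p ⟨s i, h⟩ = n i
  rels : Rels s
  o2 : ∀ K ≤ FF s ⊓ centralizer {s 1}, IsPGroup 2 K →
    (∀ g ∈ FF s ⊓ centralizer {s 1}, ∀ k ∈ K, g * k * g⁻¹ ∈ K) → K ≤ zpowers (s 1)

/-- the view from the centraliser of the node `a = s 1` -/
structure Opp {G T : Type*} [Group G] [Group T] (n : ℕ → T) (Q L : Subgroup T) (y : T) (t : G)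
    (M : Subgroup G) (p : M →* T) (s : ℕ → G) (M' : Subgroup G) (p' : M' →* T) (e : G) : Prop where
  le : M' ≤ centralizer {s 1}
  idx : M'.relIndex (centralizer {s 1}) ∣ 2
  surj : Function.Surjective p'
  ker : ∀ m, p' m = 1 ↔ (m : G) = 1 ∨ (m : G) = s 1
  hN : M ⊓ centralizer {s 1} = M' ⊓ centralizer {t}
  lift : ∀ m : M, p m * n 1 = n 1 * p m → (m : G) * s 1 = s 1 * m
  lift' : ∀ m : M', p' m * n 1 = n 1 * p' m → (m : G) * t = t * m
  pt : ∀ h : t ∈ M', p' ⟨t, h⟩ = n 1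
  hR : ∀ x (h : x ∈ M) (h' : x ∈ M'), p ⟨x, h⟩ ∈ Q ↔ p' ⟨x, h'⟩ ∈ Q
  tF : t ∉ FF s
  FM : FF s ≤ M
  liftF : ∀ f ∈ FF n, ∃ m : M, (m : G) ∈ FF s ∧ p m = f
  hU : ∀ x (h' : x ∈ M'), x ∈ FF s → p' ⟨x, h'⟩ ∈ L
  pe : ∃ h : e ∈ M', p' ⟨e, h⟩ = y
  e2 : e * e = 1
  te : (t * e) ^ 3 = 1
  cen : ∀ w (h : w ∈ M'), (t * w) ^ 3 = 1 → (∀ l ∈ L, l * p' ⟨w, h⟩ = p' ⟨w, h⟩ * l) →
    ∀ x ∈ FF s ⊓ centralizer {s 1}, x * w = w * x


variable {G T : Type*} [Group G] [Group T]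

theorem mul_mem_two {M C : Subgroup G} (h : M.relIndex C = 2) {x y : G} (hx : x ∈ C) (hy : y ∈ C) :
    x * y ∈ M ↔ (x ∈ M ↔ y ∈ M) :=
  mul_mem_iff_of_index_two (H := M.subgroupOf C) h (a := ⟨x, hx⟩) (b := ⟨y, hy⟩)

theorem comm_mem_two {M C : Subgroup G} (h : M.relIndex C ∣ 2) {x y : G} (hx : x ∈ C) (hy : y ∈ C) :
    ⁅x, y⁆ ∈ M := by
  rcases (Nat.dvd_prime Nat.prime_two).1 h with h | h
  · exact relIndex_eq_one.1 h (mul_mem (mul_mem (mul_mem hx hy) (inv_mem hx)) (inv_mem hy))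
  have e : ⁅x, y⁆ = (x * y) * (x⁻¹ * y⁻¹) := by rw [commutatorElement_def]; group
  rw [e, mul_mem_two h (mul_mem hx hy) (mul_mem (inv_mem hx) (inv_mem hy)), mul_mem_two h hx hy,
    mul_mem_two h (inv_mem hx) (inv_mem hy), inv_mem_iff, inv_mem_iff]

theorem cube_mem_two {M C : Subgroup G} (h : M.relIndex C ∣ 2) {x : G} (hx : x ∈ C) (h3 : x ^ 3 = 1) :
    x ∈ M := by
  rcases (Nat.dvd_prime Nat.prime_two).1 h with h | h
  · exact relIndex_eq_one.1 h hx
  have h2 : x * x ∈ M := (mul_mem_two h hx hx).2 Iff.rfl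
  have e : x = (x * x)⁻¹ := by
    rw [eq_inv_iff_mul_eq_one, ← h3, pow_three]
  rw [e]; exact inv_mem h2

theorem mem_zp {a x : G} (ha : a * a = 1) (hx : x ∈ zpowers a) : x = 1 ∨ x = a := by
  obtain ⟨k, rfl⟩ := hx
  have h2 : a ^ (2 : ℤ) = 1 := by rw [zpow_two, ha]
  rcases Int.even_or_odd' k with ⟨j, rfl | rfl⟩
  · left; show a ^ (2 * j) = 1; rw [zpow_mul, h2, one_zpow]
  · right; show a ^ (2 * j + 1) = a; rw [zpow_add, zpow_mul, h2, one_zpow, one_mul, zpow_one]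

/-- half of the symmetric configuration -/
structure Half (r : T) (t a : G) (M : Subgroup G) (p : M →* T) : Prop where
  t2 : t * t = 1
  le : M ≤ centralizer {t}
  idx : M.relIndex (centralizer {t}) ∣ 2
  surj : Function.Surjective p
  ker : ∀ m, p m = 1 ↔ (m : G) = 1 ∨ (m : G) = t
  aM : a ∈ M
  pa : p ⟨a, aM⟩ = r

variable {r : T} {t a : G} {M M' : Subgroup G} {p : M →* T} {p' : M' →* T}

theorem Half.cm (H : Half r t a M p) {x : G} (hx : x ∈ M) : x * t = t * x :=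
  mem_centralizer_singleton_iff.1 (H.le hx)

theorem Half.eq (H : Half r t a M p) {m d : M} (e : p d = p m) : (m : G) = d ∨ (m : G) = d * t := by
  rcases (H.ker (d⁻¹ * m)).1 (by rw [map_mul, map_inv, e, inv_mul_cancel]) with h | h
  · left; exact (inv_mul_eq_one.1 h).symm
  · right; rw [← h]; simp

theorem Half.push (H : Half r t a M p) {m : M} (h : (m : G) * a = a * m) : p m * r = r * p m := by
  rw [← H.pa, ← map_mul, ← map_mul]; congr 1; exact Subtype.ext h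

theorem Half.lift (H : Half r t a M p) (hp : ⁅centralizer {r}, centralizer {r}⁆ = centralizer ({r} : Set T))
    (m : M) (h : p m * r = r * p m) : (m : G) * a = a * m := by
  have hc : p.ker ≤ center M := fun k hk => mem_center_iff.2 fun g => Subtype.ext (by
    rcases (H.ker k).1 hk with e | e
    · simp [e]
    · simpa [e] using H.cm g.2)
  have hP : _root_.commutator (centralizer ({r} : Set T)) = ⊤ := by
    apply map_injective (centralizer ({r} : Set T)).subtype_injective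
    rw [map_subtype_commutator, hp, ← MonoidHom.range_eq_map, range_subtype]
  have := MON.Mt.lift_cent p H.surj hc hP (u := ⟨a, H.aM⟩) (by rw [H.pa]) (x := m)
    (mem_centralizer_singleton_iff.2 h)
  have := congrArg Subtype.val this
  exact mul_inv_eq_iff_eq_mul.1 this

theorem Half.hN (H : Half r t a M p) (H' : Half r a t M' p')
    (hp : ⁅centralizer {r}, centralizer {r}⁆ = centralizer ({r} : Set T)) {x : G} (hx : x ∈ M)
    (ha : x * a = a * x) : x ∈ M' := by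
  have h1 : (⁅(centralizer {r}).comap p, (centralizer {r}).comap p⁆).map p = centralizer {r} := by
    rw [map_commutator, map_comap_eq_self_of_surjective H.surj, hp]
  obtain ⟨d, hd, e⟩ : p ⟨x, hx⟩ ∈ (⁅(centralizer {r}).comap p, (centralizer {r}).comap p⁆).map p := by
    rw [h1]; exact mem_centralizer_singleton_iff.2 (H.push ha)
  have h2 : ⁅(centralizer {r}).comap p, (centralizer {r}).comap p⁆ ≤ M'.comap M.subtype := by
    rw [commutator_le]
    intro u hu v hv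
    rw [mem_comap, map_commutatorElement]
    exact comm_mem_two H'.idx
      (mem_centralizer_singleton_iff.2 (H.lift hp u (mem_centralizer_singleton_iff.1 hu)))
      (mem_centralizer_singleton_iff.2 (H.lift hp v (mem_centralizer_singleton_iff.1 hv)))
  have h3 : (d : G) ∈ M' := h2 hd
  rcases H.eq e with h | h
  · exact (show x = d from h) ▸ h3
  · exact (show x = d * t from h) ▸ mul_mem h3 H'.aM

theorem Half.pow (H : Half r t a M p) {Q : Subgroup T} (hQ : IsPGroup 2 Q) {m : M} (h : p m ∈ Q) :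
    ∃ k, (m : G) ^ 2 ^ k = 1 := by
  obtain ⟨k, hk⟩ := hQ ⟨_, h⟩
  have h1 : p (m ^ 2 ^ k) = 1 := by rw [map_pow]; exact congrArg Subtype.val hk
  refine ⟨k + 1, ?_⟩
  rw [pow_succ, pow_mul, pow_two]
  rcases (H.ker _).1 h1 with e | e
  · rw [show (m : G) ^ 2 ^ k = 1 from e, one_mul]
  · rw [show (m : G) ^ 2 ^ k = t from e, H.t2]

variable {n : ℕ → T} {Q L : Subgroup T} {y u : T}

theorem QC (h : TF n Q L y u) {q : T} (hq : q ∈ Q) : q * n 1 = n 1 * q :=
  mem_centralizer_singleton_iff.1 (h.cent ▸ (le_sup_left : Q ≤ Q ⊔ L) hq)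

theorem r_ne (h : TF n Q L y u) : n 1 ≠ 1 := fun e => by
  have := h.r2
  rw [e, orderOf_one] at this
  omega

theorem r_sq (h : TF n Q L y u) : n 1 * n 1 = 1 := by
  rw [← pow_two, ← h.r2, pow_orderOf_eq_one]

theorem Half.hR (h : TF n Q L y u) (H : Half (n 1) t a M p) (H' : Half (n 1) a t M' p') {x : G}
    (hx : x ∈ M) (hx' : x ∈ M') (hq : p ⟨x, hx⟩ ∈ Q) : p' ⟨x, hx'⟩ ∈ Q := by
  refine h.o2 ((((Q.comap p).map M.subtype).comap M'.subtype).map p') ?_ ?_ ?_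
    ⟨⟨x, hx'⟩, ⟨⟨x, hx⟩, hq, rfl⟩, rfl⟩
  · rintro _ ⟨m, ⟨d, -, e⟩, rfl⟩
    refine mem_centralizer_singleton_iff.2 (H'.push ?_)
    rw [← show (d : G) = m from e]; exact H.cm d.2
  · rintro ⟨_, m, ⟨d, hd, e⟩, rfl⟩
    obtain ⟨k, hk⟩ := H.pow h.two hd
    refine ⟨k, Subtype.ext ?_⟩
    show p' m ^ 2 ^ k = 1
    rw [← map_pow, show m ^ 2 ^ k = 1 from Subtype.ext (by
      rw [show (d : G) = m from e] at hk; exact hk), map_one]
  · rintro g hg _ ⟨m, ⟨d, hd, e⟩, rfl⟩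
    obtain ⟨c, rfl⟩ := H'.surj g
    have hc : (c : G) ∈ M :=
      H'.hN H h.perf c.2 (H'.lift h.perf c (mem_centralizer_singleton_iff.1 hg))
    refine ⟨c * m * c⁻¹, ⟨⟨c, hc⟩ * d * ⟨c, hc⟩⁻¹, ?_, ?_⟩, by simp⟩
    · show p _ ∈ Q
      rw [map_mul, map_mul, map_inv]
      exact h.norm _ (mem_centralizer_singleton_iff.2 (H.push (H'.cm c.2))) _ hd
    · show (c : G) * d * (c : G)⁻¹ = c * m * (c : G)⁻¹
      rw [show (d : G) = m from e]

theorem Half.conj (H : Half r t a M p) (ha : a * a = 1) {g : G} (h1 : g * t * g⁻¹ = a)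
    (h2 : g * a * g⁻¹ = t) : ∃ (M' : Subgroup G) (p' : M' →* T), Half r a t M' p' := by
  have k1 : g⁻¹ * a * g = t := by rw [← h1]; group
  have k2 : g⁻¹ * t * g = a := by rw [← h2]; group
  have hc : (centralizer ({t} : Set G)).comap (MulAut.conj g⁻¹).toMonoidHom = centralizer {a} := by
    ext x
    rw [mem_comap, mem_centralizer_singleton_iff, mem_centralizer_singleton_iff, ← k1]
    simp only [MulEquiv.toMonoidHom_eq_coe, MonoidHom.coe_coe, MulAut.conj_apply, inv_inv]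
    constructor
    · intro e
      calc x * a = g * (g⁻¹ * x * g * (g⁻¹ * a * g)) * g⁻¹ := by group
        _ = a * x := by rw [e]; group
    · intro e
      calc g⁻¹ * x * g * (g⁻¹ * a * g) = g⁻¹ * (x * a) * g := by group
        _ = _ := by rw [e]; group
  have hm : t ∈ M.comap (MulAut.conj g⁻¹).toMonoidHom := by
    show g⁻¹ * t * g⁻¹⁻¹ ∈ M
    rw [inv_inv, k2]; exact H.aM
  refine ⟨M.comap (MulAut.conj g⁻¹).toMonoidHom,
    p.comp ((MulAut.conj g⁻¹).toMonoidHom.subgroupComap M), ha, ?_, ?_, ?_, ?_, hm, ?_⟩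
  · rw [← hc]; exact comap_mono H.le
  · rw [← hc, relIndex_comap, map_comap_eq_self_of_surjective (MulAut.conj g⁻¹).surjective]
    exact H.idx
  · exact H.surj.comp
      (MonoidHom.subgroupComap_surjective_of_surjective _ _ (MulAut.conj g⁻¹).surjective)
  · intro m
    rw [MonoidHom.comp_apply, H.ker]
    show g⁻¹ * m * g⁻¹⁻¹ = 1 ∨ g⁻¹ * m * g⁻¹⁻¹ = t ↔ _
    rw [inv_inv, ← k1, mul_left_inj, mul_right_inj, mul_assoc, inv_mul_eq_one, eq_comm (a := g),
      mul_eq_right]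
  · rw [← H.pa, MonoidHom.comp_apply]
    congr 1
    exact Subtype.ext (by show g⁻¹ * t * g⁻¹⁻¹ = a; rw [inv_inv, k2])

theorem Half.twist (H : Half r t a M p) {q : T} (hq : q * r = r * q) :
    Half r t a M ((MulAut.conj q⁻¹).toMonoidHom.comp p) := by
  refine ⟨H.t2, H.le, H.idx, (MulAut.conj q⁻¹).surjective.comp H.surj, fun m => ?_, H.aM, ?_⟩
  · rw [← H.ker]; exact (MulAut.conj q⁻¹).map_eq_one_iff
  · show q⁻¹ * p _ * q⁻¹⁻¹ = r
    rw [H.pa, inv_inv, mul_assoc, ← hq]; group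

variable {s : ℕ → G}

theorem a_sq (C : Ctx n t M p s) : s 1 * s 1 = 1 := C.rels.sq 1 (by decide)

theorem t_sq (C : Ctx n t M p s) : t * t = 1 := by rw [← pow_two, ← C.t2, pow_orderOf_eq_one]

theorem half (C : Ctx n t M p s) : Half (n 1) t (s 1) M p :=
  ⟨t_sq C, C.le, C.idx, C.surj, C.ker, (C.node 1 (by decide)).1, (C.node 1 (by decide)).2⟩

theorem a_ne (h : TF n Q L y u) (C : Ctx n t M p s) : s 1 ≠ 1 := fun e =>
  r_ne h ((half C).pa ▸ (C.ker _).2 (Or.inl e))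

theorem a_ne_t (h : TF n Q L y u) (C : Ctx n t M p s) : s 1 ≠ t := fun e =>
  r_ne h ((half C).pa ▸ (C.ker _).2 (Or.inr e))

theorem gF_ga : ∀ i ∈ gF, i ∈ ga := by decide

theorem FM (C : Ctx n t M p s) : FF s ≤ M := by
  rw [FF, closure_le]
  rintro _ ⟨i, hi, rfl⟩
  exact (C.node i (gF_ga i hi)).1

theorem node_mem {X : Type*} [Group X] (s : ℕ → X) {i : ℕ} (hi : i ∈ gF) : s i ∈ FF s :=
  subset_closure ⟨i, hi, rfl⟩

theorem liftF (C : Ctx n t M p s) : ∀ f ∈ FF n, ∃ m : M, (m : G) ∈ FF s ∧ p m = f := by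
  have : FF n ≤ ((FF s).comap M.subtype).map p := by
    rw [FF, closure_le]
    rintro _ ⟨i, hi, rfl⟩
    obtain ⟨h1, h2⟩ := C.node i (gF_ga i hi)
    exact ⟨⟨_, h1⟩, node_mem s hi, h2⟩
  intro f hf
  obtain ⟨m, h1, h2⟩ := this hf
  exact ⟨m, h1, h2⟩

theorem tF (h : TF n Q L y u) (C : Ctx n t M p s) : t ∉ FF s := fun ht => by
  have H := half C
  have hk := C.o2 (zpowers t) (zpowers_le.2 ⟨ht, mem_centralizer_singleton_iff.2 (H.cm H.aM).symm⟩)
    (by
      rintro ⟨x, hx⟩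
      refine ⟨1, Subtype.ext ?_⟩
      show x ^ 2 ^ 1 = 1
      rcases mem_zp H.t2 hx with rfl | rfl
      · simp
      · rw [pow_one, pow_two, H.t2])
    (fun g hg k hk => by
      rcases mem_zp H.t2 hk with rfl | rfl
      · simp
      · rw [H.cm (FM C hg.1)]; simp)
  rcases mem_zp (a_sq C) (hk (mem_zpowers t)) with e | e
  · have := C.t2
    rw [e, orderOf_one] at this
    omega
  · exact a_ne_t h C e.symm

theorem UR (h : TF n Q L y u) (C : Ctx n t M p s) {m : M} (hF : (m : G) ∈ FF s)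
    (hq : p m ∈ Q) : (m : G) = 1 ∨ (m : G) = s 1 := by
  have H := half C
  refine mem_zp (a_sq C) (C.o2 ((FF s ⊓ centralizer {s 1}) ⊓ (Q.comap p).map M.subtype) inf_le_left
    ?_ ?_ ⟨⟨hF, mem_centralizer_singleton_iff.2 (H.lift h.perf m (QC h hq))⟩, m, hq, rfl⟩)
  · rintro ⟨_, hx, d, hd, rfl⟩
    obtain ⟨k, hk⟩ := H.pow h.two hd
    exact ⟨k, Subtype.ext hk⟩
  · rintro g hg _ ⟨hx, d, hd, rfl⟩
    refine ⟨Subgroup.mul_mem _ (Subgroup.mul_mem _ hg hx) (Subgroup.inv_mem _ hg),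
      ⟨g, FM C hg.1⟩ * d * ⟨g, FM C hg.1⟩⁻¹, ?_, rfl⟩
    show p _ ∈ Q
    rw [map_mul, map_mul, map_inv]
    exact h.norm _ (mem_centralizer_singleton_iff.2
      (H.push (mem_centralizer_singleton_iff.1 hg.2))) _ hd

theorem exists_q (h : TF n Q L y u) (C : Ctx n t M p s) (H' : Half (n 1) (s 1) t M' p') :
    ∃ q ∈ Q, ∀ m : M', (m : G) ∈ FF s → p' m * (q * y * q⁻¹) = q * y * q⁻¹ * p' m := by
  have H := half C
  obtain ⟨q, hq, hU⟩ := h.compl (((FF s).comap M'.subtype).map p') (by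
      rw [eq_bot_iff]
      rintro _ ⟨⟨m, hm, rfl⟩, hQ⟩
      exact mem_bot.2 ((H'.ker m).2 (UR h C (m := ⟨m, FM C hm⟩) hm (H'.hR h H m.2 _ hQ)))) (by
      refine le_antisymm (sup_le (fun q hq => mem_centralizer_singleton_iff.2 (QC h hq)) ?_) ?_
      · rintro _ ⟨m, hm, rfl⟩
        exact mem_centralizer_singleton_iff.2 (H'.push (H.cm (FM C hm)))
      · intro c hc
        obtain ⟨m, rfl⟩ := H'.surj c
        have hm : (m : G) ∈ M :=
          H'.hN H h.perf m.2 (H'.lift h.perf m (mem_centralizer_singleton_iff.1 hc))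
        have hK : Q ⊔ (FF n ⊓ centralizer {n 1}) ≤
            ((((Q ⊔ ((FF s).comap M'.subtype).map p').comap p').map M'.subtype).comap
              M.subtype).map p := by
          refine sup_le (fun q hq => ?_) (fun f hf => ?_)
          · obtain ⟨d, rfl⟩ := H.surj q
            have hd := H.hN H' h.perf d.2 (H.lift h.perf d (QC h hq))
            exact ⟨d, ⟨⟨d, hd⟩, mem_sup_left (H.hR h H' d.2 hd hq), rfl⟩, rfl⟩
          · obtain ⟨d, hF, rfl⟩ := liftF C f hf.1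
            have hd := H.hN H' h.perf d.2 (H.lift h.perf d (mem_centralizer_singleton_iff.1 hf.2))
            exact ⟨d, ⟨⟨d, hd⟩, mem_sup_right ⟨⟨d, hd⟩, hF, rfl⟩, rfl⟩, rfl⟩
        obtain ⟨d, ⟨d', hd', e'⟩, e⟩ := hK (h.cover (mem_centralizer_singleton_iff.2
          (H.push (m := ⟨m, hm⟩) (H'.cm m.2))))
        have e2 : (d' : G) = d := e'
        rcases H.eq e with k | k
        · rw [show m = d' from Subtype.ext (k.trans e2.symm)]; exact hd'
        · rw [show m = d' * ⟨t, H'.aM⟩ from Subtype.ext (by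
            rw [show (m : G) = d * t from k, ← e2]; rfl), map_mul, H'.pa]
          exact mul_mem hd' (mem_sup_left h.rQ))
  exact ⟨q, hq, fun m hm => mem_centralizer_singleton_iff.1 (hU ⟨m, hm, rfl⟩)⟩

theorem cube_mul {x a : G} (h : x * a = a * x) (ha : a * a = 1) : (x * a) ^ 3 = x ^ 3 * a := by
  rw [(show Commute x a from h).mul_pow, pow_three a, ha, mul_one]

theorem sq_one {t e : G} (ht : t * t = 1) (h3 : (t * e) ^ 3 = 1) (hc : t * (e * e) = e * e * t)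
    (h4 : e * e * (e * e) = 1) : e * e = 1 := by
  have ti : t⁻¹ = t := inv_eq_of_mul_eq_one_right ht
  have h1 : t * e * t = e⁻¹ * t * e⁻¹ := by
    rw [← ti, ← mul_inv_rev, ← mul_inv_rev, ti, eq_inv_iff_mul_eq_one, ← h3, pow_three]; group
  have h2 : t * e * t * (t * e * t) = e * e := by
    calc t * e * t * (t * e * t) = t * e * (t * t) * e * t := by group
      _ = t * (e * e) * t := by rw [ht]; group
      _ = e * e := by rw [hc, mul_assoc, ht, mul_one]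
  have h5 : t * (e * e)⁻¹ * t = (e * e)⁻¹ := by
    rw [← ti, ← mul_inv_rev, ← mul_inv_rev, ← mul_assoc, hc, mul_assoc, ht, mul_one]
  rw [← h2, h1]
  calc e⁻¹ * t * e⁻¹ * (e⁻¹ * t * e⁻¹) = e⁻¹ * (t * (e * e)⁻¹ * t) * e⁻¹ := by group
    _ = (e * e * (e * e))⁻¹ := by rw [h5]; group
    _ = 1 := by rw [h4, inv_one]

theorem exists_e (h : TF n Q L y u) (H' : Half (n 1) a t M' p') (ht : t * t = 1) (aM : a ∈ M') :
    ∃ e, (∃ h : e ∈ M', p' ⟨e, h⟩ = y) ∧ e * e = 1 ∧ (t * e) ^ 3 = 1 := by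
  have k : ∀ m : M', p' m = y → (t * m) ^ 3 = 1 → (m : G) * m = 1 := fun m e h3 => by
    rcases (H'.ker (m * m)).1 (by rw [map_mul, e, h.y2]) with k | k
    · exact k
    · have k : (m : G) * m = a := k
      exact sq_one ht h3 (by rw [k]; exact H'.cm H'.aM) (by rw [k]; exact H'.t2)
  obtain ⟨m, e⟩ := H'.surj y
  rcases (H'.ker ((⟨t, H'.aM⟩ * m) ^ 3)).1 (by rw [map_pow, map_mul, H'.pa, e, h.ry]) with h3 | h3
  · exact ⟨m, ⟨m.2, e⟩, k m e h3, h3⟩
  · have h3 : (t * m) ^ 3 = a := h3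
    have e' : p' (m * ⟨a, aM⟩) = y := by rw [map_mul, e, (H'.ker _).2 (Or.inr rfl), mul_one]
    have h4 : (t * (m * a)) ^ 3 = 1 := by
      rw [← mul_assoc, cube_mul (H'.cm (mul_mem H'.aM m.2)) H'.t2, h3, H'.t2]
    exact ⟨m * a, ⟨mul_mem m.2 aM, e'⟩, k _ e' h4, h4⟩


theorem exists_opp {G T : Type*} [Group G] [Finite G] [Group T] {n : ℕ → T} {Q L : Subgroup T} {y u : T}
    (h : TF n Q L y u) {t : G} {M : Subgroup G} {p : M →* T} {s : ℕ → G} (C : Ctx n t M p s)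
    (W : Swap t (s 1)) : ∃ (M' : Subgroup G) (p' : M' →* T) (e : G), Opp n Q L y t M p s M' p' e := by
  have H := half C
  obtain ⟨⟨g, g1, g2⟩, -⟩ := W
  obtain ⟨M', p0, H0⟩ := H.conj (a_sq C) g1 g2
  obtain ⟨q, hq, hU⟩ := exists_q h C H0
  have H' := H0.twist (QC h hq)
  set p' := (MulAut.conj q⁻¹).toMonoidHom.comp p0 with hp'
  have hU' : ∀ x (h' : x ∈ M'), x ∈ FF s → p' ⟨x, h'⟩ ∈ L := fun x h' hx => by
    rw [h.levi]
    refine ⟨mem_centralizer_singleton_iff.2 (H'.push (H.cm (FM C hx))),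
      mem_centralizer_singleton_iff.2 ?_⟩
    show q⁻¹ * p0 ⟨x, h'⟩ * q⁻¹⁻¹ * y = y * (q⁻¹ * p0 ⟨x, h'⟩ * q⁻¹⁻¹)
    calc _ = q⁻¹ * (p0 ⟨x, h'⟩ * (q * y * q⁻¹)) * q := by group
      _ = _ := by rw [hU ⟨x, h'⟩ hx]; group
  obtain ⟨e, e1, e2, e3⟩ := exists_e h H' H.t2 (H.hN H' h.perf H.aM rfl)
  refine ⟨M', p', e, H'.le, H'.idx, H'.surj, H'.ker, ?_, H.lift h.perf, H'.lift h.perf,
    fun _ => H'.pa, fun x hx hx' => ⟨H.hR h H' hx hx', H'.hR h H hx' hx⟩, tF h C, FM C, liftF C, hU',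
    e1, e2, e3, ?_⟩
  · exact le_antisymm
      (fun x hx => ⟨H.hN H' h.perf hx.1 (mem_centralizer_singleton_iff.1 hx.2), H.le hx.1⟩)
      (fun x hx => ⟨H'.hN H h.perf hx.1 (mem_centralizer_singleton_iff.1 hx.2), H'.le hx.1⟩)
  · intro w hw h3 hl x hx
    have hM := FM C hx.1
    have hx' := H.hN H' h.perf hM (mem_centralizer_singleton_iff.1 hx.2)
    rcases H'.eq (m := ⟨x, hx'⟩ * ⟨w, hw⟩) (d := ⟨w, hw⟩ * ⟨x, hx'⟩)
      (by rw [map_mul, map_mul, hl _ (hU' x hx' hx.1)]) with k | k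
    · exact k
    · have k : x * w = w * x * s 1 := k
      have k2 : t * w * s 1 = x * (t * w) * x⁻¹ := by
        rw [← mul_assoc x, H.cm hM, mul_assoc t x, k, mul_assoc w, mem_centralizer_singleton_iff.1 hx.2]
        group
      have k3 := cube_mul (H'.cm (mul_mem H'.aM hw)) H'.t2
      rw [k2, conj_pow, h3] at k3
      exact absurd (by simpa using k3.symm) (a_ne h C)

end Cfsg.Agent.BU.W
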