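/-
Project TB.  The relations of the extra node, for a centraliser of index one or two.
-/
import Cfsg.Agent.TB.CoreA

set_option autoImplicit false

namespace Cfsg.Agent.BU.W

open Subgroup
open scoped commutatorElement

variable {G T : Type*} [Group G] [Finite G] [Group T] {n : ℕ → T} {Q L : Subgroup T} {y u : T}
  {t : G} {M : Subgroup G} {p : M →* T} {s : ℕ → G} {M' : Subgroup G} {p' : M' →* T} {e : G}


theorem cj3 {X : Type*} [Group X] {x y : X} (hx : x * x = 1) (hy : y * y = 1) (h : (x * y) ^ 3 = 1) :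
    x * y * x * (x * y)⁻¹ = y := by
  rw [mul_inv_rev, inv_eq_of_mul_eq_one_right hx, inv_eq_of_mul_eq_one_right hy]
  calc x * y * x * (y * x) = (x * y) ^ 3 * y⁻¹ := by rw [pow_three]; group
    _ = y := by rw [h, one_mul, inv_eq_of_mul_eq_one_right hy]

theorem isConj3 {X : Type*} [Group X] {x y : X} (hx : x * x = 1) (hy : y * y = 1)
    (h : (x * y) ^ 3 = 1) : IsConj x y := isConj_iff.2 ⟨x * y, cj3 hx hy h⟩

theorem cm_conj {X : Type*} [Group X] {g x y : X} (h : x * (g⁻¹ * y * g) = g⁻¹ * y * g * x) :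
    g * x * g⁻¹ * y = y * (g * x * g⁻¹) := by
  calc g * x * g⁻¹ * y = g * (x * (g⁻¹ * y * g)) * g⁻¹ := by group
    _ = _ := by rw [h]; group

omit [Finite G]

theorem half' (C : Ctx n t M p s) (O : Opp n Q L y t M p s M' p' e) : Half (n 1) (s 1) t M' p' :=
  have h : t ∈ M' := ((O.hN.le : _ ≤ M' ⊓ centralizer {t})
    ⟨C.tM, mem_centralizer_singleton_iff.2 ((half C).cm (half C).aM).symm⟩).1
  ⟨a_sq C, O.le, O.idx, O.surj, O.ker, h, O.pt h⟩

theorem toM' (O : Opp n Q L y t M p s M' p' e) {x : G} (hx : x ∈ M) (h : x * s 1 = s 1 * x) : x ∈ M' :=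
  ((O.hN.le : _ ≤ M' ⊓ centralizer {t}) ⟨hx, mem_centralizer_singleton_iff.2 h⟩).1

theorem toM (O : Opp n Q L y t M p s M' p' e) {x : G} (hx : x ∈ M') (h : x * t = t * x) : x ∈ M :=
  ((O.hN.ge : _ ≤ M ⊓ centralizer {s 1}) ⟨hx, mem_centralizer_singleton_iff.2 h⟩).1

theorem eqF (C : Ctx n t M p s) (O : Opp n Q L y t M p s M' p' e) {m d : M} (hm : (m : G) ∈ FF s)
    (hd : (d : G) ∈ FF s) (h : p d = p m) : (m : G) = d := by
  refine ((half C).eq h).resolve_right fun k => O.tF ?_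
  have : t = (d : G)⁻¹ * m := by rw [k]; group
  rw [this]; exact mul_mem (inv_mem hd) hm

theorem cmF (C : Ctx n t M p s) (O : Opp n Q L y t M p s M' p' e) {m d : M} (hm : (m : G) ∈ FF s)
    (hd : (d : G) ∈ FF s) (h : p m * p d = p d * p m) : (m : G) * d = d * m :=
  eqF C O (m := m * d) (d := d * m) (mul_mem hm hd) (mul_mem hd hm) (by rw [map_mul, map_mul, h])

theorem Lr (h : TF n Q L y u) {l : T} (hl : l ∈ L) : l * n 1 = n 1 * l :=
  mem_centralizer_singleton_iff.1 (h.levi.le hl).1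

theorem Ly (h : TF n Q L y u) {l : T} (hl : l ∈ L) : l * y = y * l :=
  mem_centralizer_singleton_iff.1 (h.levi.le hl).2

theorem push_zp (C : Ctx n t M p s) {m : M} (h : (m : G) = 1 ∨ (m : G) = s 1) :
    p m ∈ zpowers (n 1) := by
  rcases h with k | k
  · rw [show m = 1 from Subtype.ext k, map_one]; exact one_mem _
  · rw [show m = ⟨s 1, (half C).aM⟩ from Subtype.ext k, (half C).pa]; exact mem_zpowers _

theorem uniq (h : TF n Q L y u) (C : Ctx n t M p s) (O : Opp n Q L y t M p s M' p' e) {x : M}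
    (hF : (x : G) ∈ FF s) (hx : (x : G) * s 1 = s 1 * x)
    (hq : ∀ q ∈ Q, ⁅q, p x⁆ ∈ zpowers (n 1) → q ∈ zpowers (n 1)) {w : G} (w1 : w * s 1 = s 1 * w)
    (w2 : w * w = 1) (w3 : (t * w) ^ 3 = 1) (w4 : w ≠ t) (w5 : w * x = x * w) :
    ∀ z ∈ FF s ⊓ centralizer {s 1}, z * w = w * z := by
  have H := half C
  have H' := half' C O
  have hw : w ∈ M' := by
    have := cube_mem_two O.idx (mul_mem (O.le H'.aM) (mem_centralizer_singleton_iff.2 w1)) w3
    exact (mul_mem_cancel_left H'.aM).1 this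
  have hx' := toM' O x.2 hx
  have b2 : p' ⟨w, hw⟩ * p' ⟨w, hw⟩ = 1 := by
    rw [← map_mul, show (⟨w, hw⟩ * ⟨w, hw⟩ : M') = 1 from Subtype.ext w2, map_one]
  have b3 : (n 1 * p' ⟨w, hw⟩) ^ 3 = 1 := by
    rw [← H'.pa, ← map_mul, ← map_pow, show (⟨t, H'.aM⟩ * ⟨w, hw⟩ : M') ^ 3 = 1 from Subtype.ext w3,
      map_one]
  obtain ⟨q, qQ, hq'⟩ := h.opp _ (isConj3 (r_sq h) b2 b3) b3 (fun k => by
    rcases H'.eq (H'.pa.trans k.symm) with k | k
    · exact w4 k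
    · have k : w = t * s 1 := k
      rw [k, ← mul_assoc, H.t2, one_mul, pow_three, H'.t2, mul_one] at w3
      exact a_ne h C w3)
  have xL := O.hU x hx' hF
  have c1 : p' ⟨x, hx'⟩ * p' ⟨w, hw⟩ = p' ⟨w, hw⟩ * p' ⟨x, hx'⟩ := by
    rw [← map_mul, ← map_mul]; congr 1; exact Subtype.ext w5.symm
  have c2 : q⁻¹ * p' ⟨x, hx'⟩ * q⁻¹⁻¹ ∈ L := by
    rw [h.levi]
    refine ⟨mem_centralizer_singleton_iff.2 (cm_conj ?_), mem_centralizer_singleton_iff.2 (cm_conj ?_)⟩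
    · rw [inv_inv, QC h qQ, mul_inv_cancel_right]; exact Lr h xL
    · rw [inv_inv, ← hq', c1]
  have c3 : q⁻¹ * (p' ⟨x, hx'⟩ * q * (p' ⟨x, hx'⟩)⁻¹) = 1 := by
    rw [← mem_bot, ← h.disj]
    refine mem_inf.2 ⟨mul_mem (inv_mem qQ) (h.norm _ (mem_centralizer_singleton_iff.2 (Lr h xL)) _ qQ), ?_⟩
    have := mul_mem c2 (inv_mem xL)
    rw [inv_inv] at this
    simpa only [mul_assoc] using this
  obtain ⟨ρ, rfl⟩ := O.surj q
  have ρM := toM O ρ.2 (O.lift' ρ (QC h qQ))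
  have c4 := hq _ ((O.hR _ ρM ρ.2).2 qQ) (by
    rw [← map_commutatorElement]
    refine push_zp C ((O.ker ⁅ρ, ⟨x, hx'⟩⁆).1 ?_)
    rw [map_commutatorElement, commutatorElement_eq_one_iff_mul_comm, inv_mul_eq_one] at *
    exact (eq_mul_inv_iff_mul_eq.1 c3))
  have c5 : p' ρ = 1 ∨ p' ρ = n 1 := by
    rcases mem_zp (r_sq h) c4 with k | k
    · rcases (C.ker _).1 k with k | k
      · exact Or.inl ((O.ker _).2 (Or.inl k))
      · right; rw [← H'.pa]; congr 1; exact Subtype.ext k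
    · rcases H.eq (H.pa.trans k.symm) with k | k
      · exact Or.inl ((O.ker _).2 (Or.inr k))
      · right
        have aM := toM' O H.aM rfl
        rw [show ρ = ⟨s 1, aM⟩ * ⟨t, H'.aM⟩ from Subtype.ext k, map_mul, H'.pa,
          (O.ker _).2 (Or.inr rfl), one_mul]
  refine O.cen w hw w3 fun l hl => ?_
  rw [hq']
  rcases c5 with k | k
  · rw [k]; simpa using Ly h hl
  · rw [k]
    refine (cm_conj ?_).symm
    rw [mul_assoc _ l, Lr h hl, inv_mul_cancel_left]; exact (Ly h hl).symm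

theorem eU (h : TF n Q L y u) (O : Opp n Q L y t M p s M' p' e) {x : G} (hF : x ∈ FF s)
    (hx : x * s 1 = s 1 * x) : x * e = e * x := by
  obtain ⟨he, pe⟩ := O.pe
  exact O.cen e he O.te (fun l hl => by rw [pe]; exact Ly h hl) x
    ⟨hF, mem_centralizer_singleton_iff.2 hx⟩

theorem conj7 (R : Rels s) : IsConj (s 1) (s 7) := by
  have k : ∀ i j, i ∈ ga → j ∈ ga → (i, j) ∈ eds → IsConj (s i) (s j) := fun i j hi hj h =>
    isConj3 (R.sq i hi) (R.sq j hj) (R.br _ h)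
  exact (k 1 2 (by decide) (by decide) (by decide)).trans ((k 2 3 (by decide) (by decide) (by decide)).trans
    ((k 3 4 (by decide) (by decide) (by decide)).trans ((k 4 5 (by decide) (by decide) (by decide)).trans
    ((k 5 6 (by decide) (by decide) (by decide)).trans (k 6 7 (by decide) (by decide) (by decide))))))

theorem syl' (h : TF n Q L y u) (C : Ctx n t M p s) (O : Opp n Q L y t M p s M' p' e) {S : Subgroup T}
    (hS : Syl S (centralizer {n 1})) : ∃ S', Syl S' (centralizer {n 1}) ∧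
      ∀ k ∈ S', ∃ (m : M) (hm : (m : G) ∈ M'), p m ∈ S ∧ p' ⟨m, hm⟩ = k := by
  have H := half C
  have H' := half' C O
  let N0 : Subgroup M := (centralizer {n 1}).comap p
  have hN0 : ∀ x : N0, (M.subtype.comp N0.subtype) x ∈ M' := fun x =>
    toM' O x.1.2 (O.lift x.1 (mem_centralizer_singleton_iff.1 x.2))
  let θ : N0 →* T := p'.comp ((M.subtype.comp N0.subtype).codRestrict M' hN0)
  have hθ : (⊤ : Subgroup N0).map θ = centralizer {n 1} := by
    refine le_antisymm ?_ fun c hc => ?_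
    · rintro _ ⟨x, -, rfl⟩
      exact mem_centralizer_singleton_iff.2 (H'.push (H.cm x.1.2))
    · obtain ⟨m, rfl⟩ := O.surj c
      have hm := toM O m.2 (O.lift' m (mem_centralizer_singleton_iff.1 hc))
      exact ⟨⟨⟨m, hm⟩, mem_centralizer_singleton_iff.2 (H.push (H'.cm m.2))⟩, mem_top _, rfl⟩
  refine ⟨((S.comap p).subgroupOf N0).map θ, ⟨hθ ▸ map_mono le_top, ?_, fun hd => hS.odd ?_⟩, ?_⟩
  · rintro ⟨_, x, hx, rfl⟩
    obtain ⟨k, hk⟩ := H.pow hS.two (m := x.1) hx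
    refine ⟨k, Subtype.ext ?_⟩
    show θ x ^ 2 ^ k = 1
    rw [← map_pow, show x ^ 2 ^ k = 1 from Subtype.ext (Subtype.ext hk), map_one]
  · rw [← hθ, relIndex_map_map, top_sup_eq, relIndex_top_right] at hd
    have h2 := hd.trans (index_dvd_of_le le_sup_left)
    have h3 : ((S.comap p).subgroupOf N0).index = S.relIndex (centralizer {n 1}) := by
      show (S.comap p).relIndex N0 = _
      rw [relIndex_comap, map_comap_eq_self_of_surjective C.surj]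
    rwa [h3] at h2
  · rintro _ ⟨x, hx, rfl⟩
    exact ⟨x.1, hN0 x, hx, rfl⟩



theorem Opp.glue (h : TF n Q L y u) (C : Ctx n t M p s) (O : Opp n Q L y t M p s M' p' e) :
    ∀ i ∈ gF, e * s i = s i * e := by
  have H := half C
  have H' := half' C O
  obtain ⟨x0, xF0, x1, x11, hx⟩ := h.fpf
  obtain ⟨x, xF, rfl⟩ := O.liftF x0 xF0
  obtain ⟨m0, mF0, m1, m11⟩ := h.swap
  obtain ⟨m, mF, rfl⟩ := O.liftF m0 mF0
  obtain ⟨bM, pb⟩ := C.node 11 (by decide)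
  have aF : s 1 ∈ FF s := node_mem s (by decide)
  have bF : s 11 ∈ FF s := node_mem s (by decide)
  have k1 : (m : G) * s 1 * (m : G)⁻¹ = s 11 :=
    eqF C O (m := m * ⟨_, H.aM⟩ * m⁻¹) (d := ⟨_, bM⟩) (mul_mem (mul_mem mF aF) (inv_mem mF)) bF
      (by rw [map_mul, map_mul, map_inv, H.pa, pb, m1])
  have k2 : (m : G) * s 11 * (m : G)⁻¹ = s 1 :=
    eqF C O (m := m * ⟨_, bM⟩ * m⁻¹) (d := ⟨_, H.aM⟩) (mul_mem (mul_mem mF bF) (inv_mem mF)) aF
      (by rw [map_mul, map_mul, map_inv, H.pa, pb, m11])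
  have k3 : (m : G)⁻¹ * s 1 * m = s 11 := by rw [← k2]; group
  have xa := O.lift x x1
  have xb : (x : G) * s 11 = s 11 * x := cmF C O (d := ⟨_, bM⟩) xF bF (by rw [pb, x11])
  have mt := H.cm m.2
  have key := uniq h C O xF xa hx (w := m * e * (m : G)⁻¹)
    (cm_conj (by rw [k3]; exact (eU h O bF (C.rels.cm 11 (by decide) 1 (by decide) (by decide)
      (by decide))).symm))
    (by rw [conj_mul, O.e2]; simp)
    (by rw [show t * (m * e * (m : G)⁻¹) = m * (t * e) * (m : G)⁻¹ by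
          rw [← mul_assoc (m : G) t, mt]; group, conj_pow, O.te]; simp)
    (fun k => by
      obtain ⟨he, pe⟩ := O.pe
      have : e = t := by
        rw [mul_inv_eq_iff_eq_mul, ← mt] at k
        exact mul_left_cancel k
      subst this
      exact h.yr (pe.symm.trans H'.pa))
    (cm_conj (eU h O (mul_mem (mul_mem (inv_mem mF) xF) mF) (by
      have := cm_conj (g := (m : G)⁻¹) (x := x) (y := s 1) (by rw [inv_inv, k1, xb])
      rwa [inv_inv] at this)).symm)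
  have h2 := key (m * s 2 * (m : G)⁻¹) (mem_inf.2
    ⟨mul_mem (mul_mem mF (node_mem s (by decide))) (inv_mem mF),
    mem_centralizer_singleton_iff.2 (cm_conj (by
      rw [k3]; exact C.rels.cm 2 (by decide) 11 (by decide) (by decide) (by decide)))⟩)
  rw [conj_mul, conj_mul, mul_left_inj, mul_right_inj] at h2
  intro i hi
  by_cases i2 : i = 2
  · rw [i2, h2]
  · have : ∀ i ∈ gF, i ≠ 2 → (i, 1) ∉ eds ∧ (1, i) ∉ eds := by decide
    exact (eU h O (node_mem s hi) (C.rels.cm i (gF_ga i hi) 1 (by decide) (this i hi i2).1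
      (this i hi i2).2)).symm

theorem Opp.seven (h : TF n Q L y u) (C : Ctx n t M p s) (W : Swap t (s 1))
    (O : Opp n Q L y t M p s M' p' e) : (e * s 7) ^ 3 = 1 := by
  have H := half C
  have H' := half' C O
  obtain ⟨f0, fF0, x, hx, x1, xQ, ⟨q, qQ, hq⟩, ⟨S, hS, Sx⟩, c, hc, hinj⟩ := h.seven
  obtain ⟨f, fF, rfl⟩ := O.liftF f0 fF0
  obtain ⟨ρ, rfl⟩ := C.surj q
  obtain ⟨dM, pd⟩ := C.node 7 (by decide)
  have aF : s 1 ∈ FF s := node_mem s (by decide)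
  have t7 : IsConj t (s 7) := by
    obtain ⟨⟨g, g1, -⟩, -⟩ := W
    exact (isConj_iff.2 ⟨g, g1⟩).trans (conj7 C.rels)
  have nc : ¬ IsConj (t * s 1) (s 7) := fun k => W.2 (t7.trans k.symm)
  obtain ⟨X, hX⟩ : ∃ X : M, X = f * ⟨_, H.aM⟩ * f⁻¹ := ⟨_, rfl⟩
  have XF : (X : G) ∈ FF s := by rw [hX]; exact mul_mem (mul_mem fF aF) (inv_mem fF)
  have pX : p X = x := by rw [hX, map_mul, map_mul, map_inv, H.pa, hx]
  have X2 : (X : G) * X = 1 := by
    rw [hX]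
    show f * s 1 * (f : G)⁻¹ * (f * s 1 * (f : G)⁻¹) = 1
    rw [conj_mul, H'.t2]; simp
  clear hx
  subst pX
  have XM := toM' O X.2 (O.lift X x1)
  have ρM := toM' O ρ.2 (O.lift ρ (QC h qQ))
  have d1 : s 7 = ρ * X * (ρ : G)⁻¹ := by
    refine (H.eq (m := ⟨_, dM⟩) (d := ρ * X * ρ⁻¹)
      (by rw [map_mul, map_mul, map_inv, pd, hq])).resolve_right fun k => nc ?_
    have k : s 7 = ρ * X * (ρ : G)⁻¹ * t := k
    refine isConj_iff.2 ⟨ρ * f, ?_⟩
    rw [k, ← H.cm (mul_mem (mul_mem ρ.2 X.2) (inv_mem ρ.2)) |>.symm, ← mul_assoc _ t,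
      H.cm (mul_mem ρ.2 f.2), hX]
    show _ = t * (ρ * (f * s 1 * (f : G)⁻¹) * (ρ : G)⁻¹)
    group
  have dM' : s 7 ∈ M' := d1 ▸ mul_mem (mul_mem ρM XM) (inv_mem ρM)
  have pd' : p' ⟨_, dM'⟩ = p' ⟨ρ, ρM⟩ * p' ⟨X, XM⟩ * (p' ⟨ρ, ρM⟩)⁻¹ := by
    rw [← map_mul, ← map_inv, ← map_mul]; congr 1; exact Subtype.ext d1
  have qQ' := (O.hR _ ρ.2 ρM).1 qQ
  obtain ⟨S', hS', lS⟩ := syl' h C O hS
  obtain ⟨l, lL, hl⟩ := h.top _ (O.hU X XM XF)
    (by rw [← map_mul, show (⟨X, XM⟩ * ⟨X, XM⟩ : M') = 1 from Subtype.ext X2, map_one])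
    (fun k => xQ ((O.hR _ X.2 XM).2 (k ▸ one_mem _)))
    ⟨S', hS', fun k hk => by
      obtain ⟨m, hm, mS, rfl⟩ := lS k hk
      rw [← map_commutatorElement]
      refine (O.hR _ (⁅m, X⁆ : M).2 (⁅(⟨m, hm⟩ : M'), (⟨X, XM⟩ : M')⁆).2).1 ?_
      show p ⁅m, X⁆ ∈ Q
      rw [map_commutatorElement]
      exact Sx _ mS⟩
  obtain ⟨he, pe⟩ := O.pe
  have main : (y * p' ⟨_, dM'⟩) ^ 3 = 1 := by
    by_contra hne
    obtain ⟨B, hB, bad⟩ := h.bad
    choose ch cF pc using fun i => O.liftF (c i) (hc i).1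
    have cM : ∀ i, (ch i : G) ∈ M' := fun i =>
      toM' O (ch i).2 (O.lift _ (by rw [pc]; exact (hc i).2.1))
    have cL := fun i => O.hU _ (cM i) (cF i)
    have cX : ∀ i, p' ⟨_, cM i⟩ * p' ⟨X, XM⟩ = p' ⟨X, XM⟩ * p' ⟨_, cM i⟩ := fun i => by
      rw [← map_mul, ← map_mul]; congr 1
      exact Subtype.ext (cmF C O (cF i) XF (by rw [pc]; exact (hc i).2.2))
    let ω : Fin 29 → T := fun i => (l⁻¹ * p' ⟨_, cM i⟩) * p' ⟨_, dM'⟩ * (l⁻¹ * p' ⟨_, cM i⟩)⁻¹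
    have hω : ∀ i, ω i ∈ B := fun i => by
      have gL := mul_mem (inv_mem lL) (cL i)
      have e1 : ω i = (l⁻¹ * p' ⟨_, cM i⟩) * p' ⟨ρ, ρM⟩ * (l⁻¹ * p' ⟨_, cM i⟩)⁻¹ * u *
          ((l⁻¹ * p' ⟨_, cM i⟩) * p' ⟨ρ, ρM⟩ * (l⁻¹ * p' ⟨_, cM i⟩)⁻¹)⁻¹ := by
        have e2 : u = l⁻¹ * (p' ⟨_, cM i⟩ * p' ⟨X, XM⟩ * (p' ⟨_, cM i⟩)⁻¹) * l := by
          rw [cX, mul_inv_cancel_right, hl]; group
        simp only [ω]
        rw [pd', e2]; group
      rw [e1]
      refine (bad _ (h.norm _ (mem_centralizer_singleton_iff.2 (Lr h gL)) _ qQ')).resolve_left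
        fun k => hne ?_
      rw [← e1, show y * ω i = (l⁻¹ * p' ⟨_, cM i⟩) * (y * p' ⟨_, dM'⟩) * (l⁻¹ * p' ⟨_, cM i⟩)⁻¹ by
        rw [← mul_assoc _ y, Ly h gL]; simp only [ω, mul_assoc], conj_pow, conj_eq_one_iff] at k
      exact k
    have inj : Function.Injective ω := fun i j k => by
      refine hinj i j ?_
      rw [← pc, ← pc, ← pd, ← map_mul, ← map_mul, ← map_inv, ← map_inv, ← map_mul, ← map_mul,
        ← map_inv, ← map_mul]
      refine push_zp C ((O.ker ((⟨_, cM i⟩ * ⟨_, dM'⟩ * ⟨_, cM i⟩⁻¹)⁻¹ *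
        (⟨_, cM j⟩ * ⟨_, dM'⟩ * ⟨_, cM j⟩⁻¹))).1 ?_)
      simp only [map_mul, map_inv]
      rw [inv_mul_eq_one]
      simp only [ω, mul_inv_rev, inv_inv, mul_assoc, mul_right_inj] at k
      simp only [← mul_assoc, mul_left_inj] at k
      exact k
    have := Finset.card_le_card_of_injOn (s := Finset.univ) (t := B) ω (fun i _ => hω i) inj.injOn
    simp at this
    omega
  refine ((O.ker ((⟨e, he⟩ * ⟨_, dM'⟩) ^ 3)).1 (by rw [map_pow, map_mul, pe, main])).resolve_right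
    fun k => nc ?_
  have k : (e * s 7) ^ 3 = s 1 := k
  have k3 : (e * (s 7 * s 1)) ^ 3 = 1 := by
    rw [← mul_assoc, cube_mul (H'.cm (mul_mem he dM')) H'.t2, k, H'.t2]
  have k4 : s 7 * s 1 * (s 7 * s 1) = 1 := by
    rw [mul_assoc, ← mul_assoc (s 1), ← H'.cm dM', mul_assoc, H'.t2, mul_one, C.rels.sq 7 (by decide)]
  have aM := toM' O H.aM rfl
  have gM : e * (s 7 * s 1) * (t * e) ∈ M' := mul_mem (mul_mem he (mul_mem dM' aM)) (mul_mem H'.aM he)
  refine isConj_iff.2 ⟨e * (s 7 * s 1) * (t * e), ?_⟩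
  rw [← conj_mul, H'.cm gM, mul_inv_cancel_right]
  have k5 : e * (s 7 * s 1) * (t * e) * t * (e * (s 7 * s 1) * (t * e))⁻¹ = s 7 * s 1 := by
    calc _ = e * (s 7 * s 1) * (t * e * t * (t * e)⁻¹) * (e * (s 7 * s 1))⁻¹ := by group
      _ = _ := by rw [cj3 H.t2 O.e2 O.te, cj3 O.e2 k4 k3]
  rw [k5, mul_assoc, H'.t2, mul_one]

end Cfsg.Agent.BU.W
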